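import Groth.Prelude.Def_W4stkadequateTF
import Mathlib

/-!
# Tangent modules of module valued functors
-/

universe u

open CategoryTheory Limits

namespace Groth.Agent.AdeqTFAux

variable {A : Type u} [CommRing A] (B : Adeq.Alg A)

theorem tangentMap_val (F : Adeq.MVF A) {N N' : ModuleCat.{u} B} (g : N ⟶ N') (x : AdeqTF.tangent B N F) :
    (AdeqTF.tangentMap B F g x).1 = F.map (Adeq.ptHom (AdeqTF.map B g)) x.1 := rfl

theorem tangentMap_comp (F : Adeq.MVF A) {N N' N'' : ModuleCat.{u} B} (g : N ⟶ N') (g' : N' ⟶ N'')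
    (x : AdeqTF.tangent B N F) :
    AdeqTF.tangentMap B F g' (AdeqTF.tangentMap B F g x) = AdeqTF.tangentMap B F (g ≫ g') x := by
  apply Subtype.ext
  rw [tangentMap_val, tangentMap_val, tangentMap_val, ← F.map_comp_apply]
  refine F.congr_map_apply ?_ x.1
  refine congrArg Adeq.ptHom (CommAlgCat.hom_ext (AlgHom.ext fun z => ?_))
  show TrivSqZeroExt.map g'.hom (TrivSqZeroExt.map g.hom z) = TrivSqZeroExt.map (g ≫ g').hom z
  ext <;> simp [TrivSqZeroExt.fst_map, TrivSqZeroExt.snd_map]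

theorem tangentMap_zero (F : Adeq.MVF A) (N N' : ModuleCat.{u} B) (x : AdeqTF.tangent B N F) :
    AdeqTF.tangentMap B F (0 : N ⟶ N') x = 0 := by
  apply Subtype.ext
  have e : Adeq.ptHom (AdeqTF.map B (0 : N ⟶ N')) = Adeq.ptHom (AdeqTF.fst B N) ≫ Adeq.ptHom (AdeqTF.inl B N') := by
    refine congrArg Adeq.ptHom (CommAlgCat.hom_ext (AlgHom.ext fun z => ?_))
    show TrivSqZeroExt.map (0 : N ⟶ N').hom z = algebraMap B (TrivSqZeroExt B N') z.fst
    ext <;> simp [TrivSqZeroExt.fst_map, TrivSqZeroExt.snd_map, TrivSqZeroExt.algebraMap_eq_inl]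
  rw [tangentMap_val, F.congr_map_apply e, F.map_comp_apply]
  exact (congrArg (F.map (Adeq.ptHom (AdeqTF.inl B N'))) x.2).trans (map_zero (F.map _).hom)

theorem tangentMap_id (F : Adeq.MVF A) (N : ModuleCat.{u} B) (x : AdeqTF.tangent B N F) :
    AdeqTF.tangentMap B F (𝟙 N) x = x := by
  apply Subtype.ext
  have e : Adeq.ptHom (AdeqTF.map B (𝟙 N)) = 𝟙 _ := by
    refine congrArg Adeq.ptHom (CommAlgCat.hom_ext (AlgHom.ext fun z => ?_))
    show TrivSqZeroExt.map (𝟙 N : N ⟶ N).hom z = z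
    ext <;> simp [TrivSqZeroExt.fst_map, TrivSqZeroExt.snd_map]
  rw [tangentMap_val, F.congr_map_apply e, F.map_id]
  rfl

variable {F G : Adeq.MVF A}

theorem natural (φ : F ⟶ G) {C D : Adeq.Alg A} (f : C ⟶ D) (x : F.obj (Adeq.pt C)) :
    φ.app (Adeq.pt D) (F.map (Adeq.ptHom f) x) = G.map (Adeq.ptHom f) (φ.app (Adeq.pt C) x) :=
  PresheafOfModules.naturality_apply φ (Adeq.ptHom f) x

/-- A morphism of functors on tangent modules. -/
noncomputable def tApp (φ : F ⟶ G) (N : ModuleCat.{u} B) : AdeqTF.tangent B N F →+ AdeqTF.tangent B N G :=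
  ((φ.app (Adeq.pt (AdeqTF.ext B N))).hom.toAddMonoidHom.comp (AdeqTF.tangent B N F).subtype).codRestrict _
    (fun x => by
      change G.map (Adeq.ptHom (AdeqTF.fst B N)) (φ.app _ x.1) = 0
      rw [← natural φ]
      exact (congrArg (φ.app (Adeq.pt B)) x.2).trans (map_zero (φ.app _).hom))

theorem tApp_tangentMap (φ : F ⟶ G) {N N' : ModuleCat.{u} B} (g : N ⟶ N') (x : AdeqTF.tangent B N F) :
    tApp B φ N' (AdeqTF.tangentMap B F g x) = AdeqTF.tangentMap B G g (tApp B φ N x) :=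
  Subtype.ext (natural φ (AdeqTF.map B g) x.1)

variable (C : ShortComplex (Adeq.MVF A)) (hC : C.ShortExact)

include hC in
theorem tApp_facts (N : ModuleCat.{u} B) :
    Function.Injective (tApp B C.f N) ∧ Function.Exact (tApp B C.f N) (tApp B C.g N) ∧
      Function.Surjective (tApp B C.g N) := by
  haveI : ∀ X, (PresheafOfModules.evaluation.{u + 1} (Adeq.ringOf A) X).Additive := fun X =>
    ⟨fun {_ _ _ _} => rfl⟩
  haveI : ∀ X, PreservesFiniteLimits (PresheafOfModules.evaluation.{u + 1} (Adeq.ringOf A) X) := fun X =>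
    ⟨fun _ _ _ => ⟨fun {F} => PresheafOfModules.evaluation_preservesLimit F X⟩⟩
  haveI : ∀ X, PreservesFiniteColimits (PresheafOfModules.evaluation.{u + 1} (Adeq.ringOf A) X) := fun X =>
    ⟨fun _ _ _ => ⟨fun {F} => PresheafOfModules.evaluation_preservesColimit F X⟩⟩
  have hx : ∀ X, (C.map (PresheafOfModules.evaluation.{u + 1} (Adeq.ringOf A) X)).ShortExact := fun X =>
    hC.map_of_exact _
  have hinj : ∀ X, Function.Injective (C.f.app X) := fun X =>
    (ModuleCat.mono_iff_injective _).1 (hx X).mono_f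
  have hsurj : ∀ X, Function.Surjective (C.g.app X) := fun X =>
    (ModuleCat.epi_iff_surjective _).1 (hx X).epi_g
  have hex : ∀ X, Function.Exact (C.f.app X) (C.g.app X) := fun X =>
    (ShortComplex.ShortExact.moduleCat_exact_iff_function_exact _).1 (hx X).exact
  refine ⟨fun a b h => Subtype.ext (hinj _ (congrArg Subtype.val h)), fun y => ⟨fun hy => ?_, ?_⟩, fun z => ?_⟩
  · obtain ⟨x, hx'⟩ := (hex _ y.1).1 (congrArg Subtype.val hy)
    refine ⟨⟨x, ?_⟩, Subtype.ext hx'⟩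
    change C.X₁.map (Adeq.ptHom (AdeqTF.fst B N)) x = 0
    have h0 : C.f.app (Adeq.pt B) (C.X₁.map (Adeq.ptHom (AdeqTF.fst B N)) x) = C.f.app (Adeq.pt B) 0 := by
      rw [natural C.f, hx']
      exact y.2.trans (map_zero (C.f.app _).hom).symm
    exact hinj (Adeq.pt B) h0
  · rintro ⟨x, rfl⟩
    exact Subtype.ext ((hex _).apply_apply_eq_zero x.1)
  · obtain ⟨y, hy⟩ := hsurj _ z.1
    let y' : C.X₂.obj (Adeq.pt (AdeqTF.ext B N)) := y -
      show C.X₂.obj (Adeq.pt (AdeqTF.ext B N)) from C.X₂.map (Adeq.ptHom (AdeqTF.inl B N)) (C.X₂.map (Adeq.ptHom (AdeqTF.fst B N)) y)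
    have hsec : Adeq.ptHom (AdeqTF.inl B N) ≫ Adeq.ptHom (AdeqTF.fst B N) = 𝟙 _ := by
      refine congrArg Adeq.ptHom (CommAlgCat.hom_ext (AlgHom.ext fun b => ?_))
      show TrivSqZeroExt.fst (algebraMap B (TrivSqZeroExt B N) b) = b
      simp [TrivSqZeroExt.algebraMap_eq_inl]
    refine ⟨⟨y', ?_⟩, Subtype.ext ?_⟩
    · change C.X₂.map (Adeq.ptHom (AdeqTF.fst B N)) y' = 0
      refine (map_sub (C.X₂.map (Adeq.ptHom (AdeqTF.fst B N))).hom _ _).trans (sub_eq_zero.2 ?_)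
      show _ = C.X₂.map (Adeq.ptHom (AdeqTF.fst B N)) (C.X₂.map (Adeq.ptHom (AdeqTF.inl B N)) _)
      rw [← C.X₂.map_comp_apply, C.X₂.congr_map_apply hsec, C.X₂.map_id]
      rfl
    · show C.g.app _ y' = z.1
      refine (map_sub (C.g.app _).hom _ _).trans ?_
      show C.g.app _ y - C.g.app _ _ = z.1
      rw [natural C.g, natural C.g, hy]
      exact sub_eq_self.2 ((congrArg (C.X₃.map (Adeq.ptHom (AdeqTF.inl B N))) z.2).trans (map_zero (C.X₃.map _).hom))

/-- Right exactness of the tangent functors of a module valued functor. -/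
def RightExactT (F : Adeq.MVF A) : Prop :=
  ∀ (B : Adeq.Alg A) (S : ShortComplex (ModuleCat.{u} B)), S.ShortExact →
    Function.Surjective (AdeqTF.tangentMap B F S.g) ∧
      (AdeqTF.tangentMap B F S.g).ker = (AdeqTF.tangentMap B F S.f).range

theorem range_le_ker (F : Adeq.MVF A) (S : ShortComplex (ModuleCat.{u} B)) (x : AdeqTF.tangent B S.X₁ F) :
    AdeqTF.tangentMap B F S.g (AdeqTF.tangentMap B F S.f x) = 0 := by
  rw [tangentMap_comp, S.zero, tangentMap_zero]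

include hC in
theorem rightExact_left (h₁ : RightExactT C.X₁) (h₂ : RightExactT C.X₂) : RightExactT C.X₃ := by
  intro B S hS
  obtain ⟨-, hex, hs⟩ := tApp_facts B C hC S.X₂
  obtain ⟨-, -, hs₁⟩ := tApp_facts B C hC S.X₁
  obtain ⟨-, hex₃, hs₃⟩ := tApp_facts B C hC S.X₃
  refine ⟨fun z => ?_, ?_⟩
  · obtain ⟨y, rfl⟩ := hs₃ z
    obtain ⟨y', rfl⟩ := (h₂ B S hS).1 y
    exact ⟨_, (tApp_tangentMap B C.g S.g y').symm⟩
  · ext z
    refine ⟨fun hz => ?_, ?_⟩
    · obtain ⟨y, rfl⟩ := hs z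
      rw [AddMonoidHom.mem_ker, ← tApp_tangentMap] at hz
      obtain ⟨x, hx⟩ := (hex₃ _).1 hz
      obtain ⟨x', rfl⟩ := (h₁ B S hS).1 x
      rw [tApp_tangentMap] at hx
      have : y - tApp B C.f S.X₂ x' ∈ (AdeqTF.tangentMap B C.X₂ S.g).ker := by
        rw [AddMonoidHom.mem_ker, map_sub, hx, sub_self]
      rw [(h₂ B S hS).2] at this
      obtain ⟨w, hw⟩ := this
      refine ⟨tApp B C.g S.X₁ w, ?_⟩
      rw [← tApp_tangentMap, hw, map_sub, hex.apply_apply_eq_zero, sub_zero]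
    · rintro ⟨w, rfl⟩
      exact range_le_ker B C.X₃ S w

include hC in
theorem rightExact_mid (h₁ : RightExactT C.X₁) (h₃ : RightExactT C.X₃) : RightExactT C.X₂ := by
  intro B S hS
  obtain ⟨-, hex, hs⟩ := tApp_facts B C hC S.X₂
  obtain ⟨-, -, hs₁⟩ := tApp_facts B C hC S.X₁
  obtain ⟨hi₃, hex₃, hs₃⟩ := tApp_facts B C hC S.X₃
  refine ⟨fun y => ?_, ?_⟩
  · obtain ⟨z', hz'⟩ := (h₃ B S hS).1 (tApp B C.g _ y)
    obtain ⟨y', rfl⟩ := hs z'
    rw [← tApp_tangentMap] at hz'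
    obtain ⟨x, hx⟩ := (hex₃ (y - AdeqTF.tangentMap B C.X₂ S.g y')).1 (by rw [map_sub, hz', sub_self])
    obtain ⟨x', rfl⟩ := (h₁ B S hS).1 x
    rw [tApp_tangentMap] at hx
    exact ⟨y' + tApp B C.f _ x', by rw [map_add, hx, add_sub_cancel]⟩
  · ext y
    refine ⟨fun hy => ?_, ?_⟩
    · rw [AddMonoidHom.mem_ker] at hy
      have h1 : tApp B C.g S.X₂ y ∈ (AdeqTF.tangentMap B C.X₃ S.g).ker := by
        rw [AddMonoidHom.mem_ker, ← tApp_tangentMap, hy, map_zero]
      rw [(h₃ B S hS).2] at h1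
      obtain ⟨w, hw⟩ := h1
      obtain ⟨v, rfl⟩ := hs₁ w
      rw [← tApp_tangentMap] at hw
      obtain ⟨x, hx⟩ := (hex (y - AdeqTF.tangentMap B C.X₂ S.f v)).1 (by rw [map_sub, hw, sub_self])
      have h2 : x ∈ (AdeqTF.tangentMap B C.X₁ S.g).ker := by
        rw [AddMonoidHom.mem_ker]
        apply hi₃
        rw [tApp_tangentMap, hx, map_sub, hy, range_le_ker, sub_zero, map_zero]
      rw [(h₁ B S hS).2] at h2
      obtain ⟨x', rfl⟩ := h2
      rw [tApp_tangentMap] at hx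
      exact ⟨v + tApp B C.f _ x', by rw [map_add, hx, add_sub_cancel]⟩
    · rintro ⟨w, rfl⟩
      exact range_le_ker B C.X₂ S w

theorem coprod_bijective (F : Adeq.MVF A) (hF : RightExactT F) (N₁ N₂ : ModuleCat.{u} B) :
    Function.Bijective ((AdeqTF.tangentMap B F (biprod.inl : N₁ ⟶ N₁ ⊞ N₂)).coprod
      (AdeqTF.tangentMap B F (biprod.inr : N₂ ⟶ N₁ ⊞ N₂))) := by
  let S : ShortComplex (ModuleCat.{u} B) := ShortComplex.mk (biprod.inl : N₁ ⟶ N₁ ⊞ N₂) biprod.snd biprod.inl_snd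
  have hS : S.ShortExact := (ShortComplex.Splitting.ofHasBinaryBiproduct N₁ N₂).shortExact
  constructor
  · rw [injective_iff_map_eq_zero]
    rintro ⟨a, b⟩ h
    rw [AddMonoidHom.coprod_apply] at h
    have h1 := congrArg (AdeqTF.tangentMap B F (biprod.fst : N₁ ⊞ N₂ ⟶ N₁)) h
    have h2 := congrArg (AdeqTF.tangentMap B F (biprod.snd : N₁ ⊞ N₂ ⟶ N₂)) h
    rw [map_add, tangentMap_comp, tangentMap_comp, biprod.inl_fst, biprod.inr_fst, tangentMap_id,
      tangentMap_zero, add_zero, map_zero] at h1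
    rw [map_add, tangentMap_comp, tangentMap_comp, biprod.inl_snd, biprod.inr_snd, tangentMap_id,
      tangentMap_zero, zero_add, map_zero] at h2
    exact Prod.ext h1 h2
  · intro y
    have h1 : y - AdeqTF.tangentMap B F biprod.inr (AdeqTF.tangentMap B F biprod.snd y) ∈
        (AdeqTF.tangentMap B F S.g).ker := by
      rw [AddMonoidHom.mem_ker]
      show AdeqTF.tangentMap B F biprod.snd _ = 0
      rw [map_sub, tangentMap_comp B F biprod.inr biprod.snd, biprod.inr_snd, tangentMap_id, sub_self]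
    rw [(hF B S hS).2] at h1
    obtain ⟨a, ha⟩ := h1
    refine ⟨(a, AdeqTF.tangentMap B F biprod.snd y), ?_⟩
    rw [AddMonoidHom.coprod_apply, show AdeqTF.tangentMap B F (biprod.inl : N₁ ⟶ N₁ ⊞ N₂) a = _ from ha,
      sub_add_cancel]

end Groth.Agent.AdeqTFAux
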